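import Cfsg.Agent.FusTate.Tate
import Cfsg.Agent.FusAut.Basic
import Cfsg.Agent.Fus.LocalSystems
import Cfsg.Agent.Fusion.Alperin.Criteria

/-!
Consequences of Tate's theorem: the three equivalent forms of control of transfer, and the inner
system criterion with a strongly closed Frattini subgroup.
-/

set_option autoImplicit false

namespace CfsgLib.FusTate

open Cfsg Cfsg.FusionSystem CfsgLib.Fus
open scoped commutatorElement

universe v

variable {Ω : Type*} [Group Ω] {S : Subgroup Ω} [Finite S] {p : ℕ} [Fact p.Prime]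

theorem commutator_le_frattini_map (hS : IsPGroup p S) : ⁅S, S⁆ ≤ (frattini S).map S.subtype := by
  rw [Subgroup.commutator_le]
  intro a ha b hb
  exact ⟨⁅(⟨a, ha⟩ : S), (⟨b, hb⟩ : S)⁆, PGroup.commutatorElement_mem_frattini hS _ _, rfl⟩

/-- Tate's theorem, equivalences. -/
theorem tate_equivalences (hS : IsPGroup p S) {F : Cfsg.FusionSystem S} (hF : F.IsSaturated p)
    (d : TwistData.{v} F p) {H : Cfsg.FusionSystem S} (hH : H.IsSaturated p)
    (hHF : H.IsSubsystemOf F) :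
    (((frattini S).map S.subtype ⊔ F.focalSubgroup) =
        ((frattini S).map S.subtype ⊔ H.focalSubgroup) ↔ F.focalSubgroup = H.focalSubgroup) ∧
      (F.focalSubgroup = H.focalSubgroup ↔
        F.hyperfocalSubgroup p = H.hyperfocalSubgroup p) := by
  have h1 : ((frattini S).map S.subtype ⊔ F.focalSubgroup) =
      ((frattini S).map S.subtype ⊔ H.focalSubgroup) →
        F.hyperfocalSubgroup p = H.hyperfocalSubgroup p := by
    intro h
    refine le_antisymm (hyperfocal_le_of_le_frattini_sup hS hF d hHF ?_)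
      (FusAut.hyperfocal_mono hHF le_rfl)
    refine ((hyperfocalSubgroup_le_focal F).trans (le_sup_right.trans h.le)).trans ?_
    rw [focal_eq_hyperfocal_sup hS hH]
    exact sup_le le_sup_left (sup_le le_sup_right ((commutator_le_frattini_map hS).trans le_sup_left))
  have h2 : F.hyperfocalSubgroup p = H.hyperfocalSubgroup p →
      F.focalSubgroup = H.focalSubgroup := fun h => by
    rw [focal_eq_hyperfocal_sup hS hF, focal_eq_hyperfocal_sup hS hH, h]
  exact ⟨⟨fun h => h2 (h1 h), fun h => by rw [h]⟩, fun h => h1 (by rw [h]), h2⟩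

/-- A strongly closed Frattini subgroup contains every displacement when `Aut_F(S) = Inn(S)`. -/
theorem hom_mod_frattini (hS : IsPGroup p S) {F : Cfsg.FusionSystem S} (hF : F.IsSaturated p)
    (htop : ∀ φ ∈ F.Hom S, ∃ g ∈ S, ∀ x : S, φ x = g * (x : Ω) * g⁻¹)
    (hsc : F.StronglyClosed ((frattini S).map S.subtype)) {P : Subgroup Ω} {φ : P →* Ω}
    (hφ : φ ∈ F.Hom P) : ∀ x : P, QuotientGroup.mk' (frattini S) ⟨φ x, hom_mem F hφ x⟩ =
      QuotientGroup.mk' (frattini S) ⟨x, hom_le F hφ x.2⟩ := by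
  induction hn : Nat.card S - Nat.card P using Nat.strong_induction_on generalizing P with
  | _ n ih =>
  subst hn
  set π := QuotientGroup.mk' (frattini S) with hπdef
  have hPS := hom_le F hφ
  have hcomm : ∀ a b : S, π (a * b * a⁻¹) = π b := fun a b => by
    rw [map_mul, map_mul, map_inv, PGroup.frattini_quotient_comm hS (π a), mul_inv_cancel_right]
  rcases eq_or_ne P S with rfl | hne
  · intro x
    obtain ⟨g, hg, hgx⟩ := htop φ hφ
    calc π ⟨φ x, hom_mem F hφ x⟩ = π (⟨g, hg⟩ * x * ⟨g, hg⟩⁻¹) :=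
          congrArg π (Subtype.ext (hgx x))
      _ = π x := hcomm _ _
  obtain ⟨Q, hPQ, hQ⟩ := exists_fullyNormalized F hPS
  have := finite_of_le hQ.1
  have := finite_mulAut Q
  -- maps on bigger subgroups
  have big : ∀ {R : Subgroup Ω} {ψ : R →* Ω} (hψ : ψ ∈ F.Hom R), Nat.card P < Nat.card R →
      ∀ x : R, π ⟨ψ x, hom_mem F hψ x⟩ = π ⟨x, hom_le F hψ x.2⟩ := by
    intro R ψ hψ hlt
    exact ih _ (by have := Subgroup.card_le_of_le (hom_le F hψ); omega) hψ rfl
  have up : ∀ {R : Subgroup Ω}, F.IsConj R Q → ∃ χ : R →* Ω, ∃ hχ : χ ∈ F.Hom R, χ.range = Q ∧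
      ∀ x : R, π ⟨χ x, hom_mem F hχ x⟩ = π ⟨x, hom_le F hχ x.2⟩ := by
    intro R hR
    obtain ⟨χ, hχ, hr, ψ, hψ, he⟩ := exists_normalizer_map_fn hS hF hQ hR
    refine ⟨χ, hχ, hr, fun x => ?_⟩
    have hlt : Nat.card P < Nat.card (normalizerIn S R) := by
      have hcard : Nat.card R = Nat.card P := (isConj_card hR).trans (isConj_card hPQ).symm
      have hRne : R ≠ S := fun e => hne
        (Subgroup.eq_of_le_of_card_ge hPS (le_of_eq (by rw [← hcard, e])))
      obtain ⟨g, hg, hgR⟩ := Fusion.Alperin.exists_normalizing_not_mem hS (isConj_le_left hR) hRne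
      exact hcard ▸ Fusion.Alperin.card_lt_of_le_of_mem (normalizerIn_le R)
        (le_normalizerIn (isConj_le_left hR)) hg hgR
    have hxN : (x : Ω) ∈ normalizerIn S R := le_normalizerIn (isConj_le_left hR) x.2
    have h' := big hψ hlt ⟨x, hxN⟩
    have e : (⟨ψ ⟨x, hxN⟩, hom_mem F hψ _⟩ : S) = ⟨χ x, hom_mem F hχ x⟩ := Subtype.ext (he x hxN)
    rwa [e] at h'
  -- automorphisms of `Q`
  let B : Subgroup (F.autGroup Q) :=
    { carrier := {b | ∀ y : Q, π ⟨((b : MulAut Q) y : Q), hQ.1 ((b : MulAut Q) y).2⟩ = π ⟨y, hQ.1 y.2⟩}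
      one_mem' := fun y => rfl
      mul_mem' := fun {a b} ha hb y => (ha ((b : MulAut Q) y)).trans (hb y)
      inv_mem' := fun {a} ha y => by
        have h' := ha ((a : MulAut Q)⁻¹ y)
        simp only [MulAut.apply_inv_self] at h'
        exact h'.symm }
  have hinvΦ : ∀ (a : F.autGroup Q) (y z : Q), π ⟨y, hQ.1 y.2⟩ = π ⟨z, hQ.1 z.2⟩ →
      π ⟨((a : MulAut Q) y : Q), hQ.1 ((a : MulAut Q) y).2⟩ =
        π ⟨((a : MulAut Q) z : Q), hQ.1 ((a : MulAut Q) z).2⟩ := by
    intro a y z hyz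
    rw [hπdef, QuotientGroup.mk'_apply, QuotientGroup.mk'_apply, QuotientGroup.eq] at hyz ⊢
    have hmem : ((y⁻¹ * z : Q) : Ω) ∈ (frattini S).map S.subtype := ⟨_, hyz, rfl⟩
    obtain ⟨w, hw, hwe⟩ := Fusion.Alperin.map_mem_of_stronglyClosed hsc
      ((mem_autGroup_iff F hQ.1).1 a.2) (x := y⁻¹ * z) hmem
    suffices e : (⟨((a : MulAut Q) y : Q), hQ.1 ((a : MulAut Q) y).2⟩ : S)⁻¹ *
        ⟨((a : MulAut Q) z : Q), hQ.1 ((a : MulAut Q) z).2⟩ = w by
      rw [e]; exact hw
    apply Subtype.ext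
    show (((a : MulAut Q) y : Q) : Ω)⁻¹ * (((a : MulAut Q) z : Q) : Ω) = (w : Ω)
    rw [show (w : Ω) = (((a : MulAut Q) (y⁻¹ * z) : Q) : Ω) from hwe, map_mul, map_inv]
    rfl
  haveI hBn : B.Normal := ⟨fun b hb a y => by
    have h' := hinvΦ a _ _ (hb ((a : MulAut Q)⁻¹ y))
    simpa using h'⟩
  obtain ⟨hQa, T, hT⟩ := (fullyNormalized_props hS hF hQ).1
  have hTB : (T : Subgroup (F.autGroup Q)) ≤ B := by
    intro b hb y
    rw [hT] at hb
    obtain ⟨g, hg, hgy⟩ := mem_autInducedBy_iff.1 (hb : (b : MulAut Q) ∈ _)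
    calc π ⟨((b : MulAut Q) y : Q), hQ.1 ((b : MulAut Q) y).2⟩
        = π (⟨g, hg⟩ * ⟨y, hQ.1 y.2⟩ * ⟨g, hg⟩⁻¹) := congrArg π (Subtype.ext (hgy y))
      _ = _ := hcomm _ _
  have htopB : B = ⊤ := by
    have h := Sylow.normalizer_sup_eq_top (T.subtype hTB)
    rw [Sylow.coe_subtype, Subgroup.map_subgroupOf_eq_of_le hTB] at h
    rw [← top_le_iff, ← h]
    refine sup_le (fun a ha => ?_) le_rfl
    have hQne : Q ≠ S := fun e => hne
      (Subgroup.eq_of_le_of_card_ge hPS (le_of_eq (by rw [isConj_card hPQ, e])))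
    obtain ⟨g, hg, hgQ⟩ := Fusion.Alperin.exists_normalizing_not_mem hS hQ.1 hQne
    have hcg : (⟨conjAut hg.2, autInducedBy_le_autGroup F hQ.1 (conjAut_mem_autInducedBy hg.2 hg.1)⟩ :
        F.autGroup Q) ∈ (T : Subgroup (F.autGroup Q)) := by
      rw [hT]; exact conjAut_mem_autInducedBy hg.2 hg.1
    have hag := (Subgroup.mem_normalizer_iff.1 ha _).1 hcg
    rw [hT] at hag
    obtain ⟨N, hQN, χ, hχ, hlt, he⟩ :=
      Fusion.Alperin.exists_extend_aut hS hF hQ a.2 hg.1 hg.2 hgQ hag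
    intro y
    have h' := big hχ (by rw [isConj_card hPQ]; exact hlt) (Subgroup.inclusion hQN y)
    have e : (⟨χ (Subgroup.inclusion hQN y), hom_mem F hχ _⟩ : S) =
        ⟨((a : MulAut Q) y : Q), hQ.1 ((a : MulAut Q) y).2⟩ := Subtype.ext (DFunLike.congr_fun he y)
    rwa [e] at h'
  intro x
  obtain ⟨χ, hχ, hχr, hχπ⟩ := up hPQ
  obtain ⟨χ', hχ', hχ'r, hχ'π⟩ := up (isConj_trans (isConj_symm (isConj_of_hom F hφ)) hPQ)
  let e := isoOf hχ hχr
  let e' := isoOf hχ' hχ'r
  let f : P →* Ω := Q.subtype.comp (e'.toMonoidHom.comp (isoOf hφ rfl).toMonoidHom)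
  let α : MulAut Q := e.symm.trans ((isoOf hφ rfl).trans e')
  have hα : α ∈ F.autGroup Q := mem_autGroup_of_mem F
    (hom_of_comp F (isoOf_symm_mem hχ hχr)
      (hom_of_comp F (isoOf_mem hφ rfl) (isoOf_mem hχ' hχ'r) (χ := f)
        (fun z => (isoOf hφ rfl z).2) fun _ => rfl)
      (fun y => (e.symm y).2) fun _ => rfl)
  have hαB : (⟨α, hα⟩ : F.autGroup Q) ∈ B := htopB ▸ Subgroup.mem_top _
  have h3 := hαB (e x)
  have e3 : (⟨((α (e x)) : Q), hQ.1 (α (e x)).2⟩ : S) =
      ⟨χ' ⟨φ x, ⟨x, rfl⟩⟩, hom_mem F hχ' _⟩ := Subtype.ext (by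
    show ((e' (isoOf hφ rfl (e.symm (e x))) : Q) : Ω) = _
    rw [MulEquiv.symm_apply_apply]; rfl)
  rw [e3] at h3
  exact ((hχ'π ⟨φ x, ⟨x, rfl⟩⟩).symm.trans h3).trans (hχπ x)

/-- The criterion of the strongly closed Frattini subgroup. -/
theorem eq_inner_of_stronglyClosed_frattini (hS : IsPGroup p S) {F : Cfsg.FusionSystem S}
    (hF : F.IsSaturated p) (d : TwistData.{v} F p)
    (htop : ∀ φ ∈ F.Hom S, ∃ g ∈ S, ∀ x : S, φ x = g * (x : Ω) * g⁻¹)
    (hsc : F.StronglyClosed ((frattini S).map S.subtype)) (P : Subgroup Ω) :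
    F.Hom P = (Cfsg.innerFusionSystem S).Hom P := by
  have hIF : (Cfsg.innerFusionSystem S).IsSubsystemOf F := fun P φ ⟨hP, g, hg, hx⟩ =>
    hom_congr F (F.conj_mem hP hg) hx
  have hle : F.hyperfocalSubgroup p ≤ (frattini S).map S.subtype := by
    rw [Cfsg.FusionSystem.hyperfocalSubgroup, Subgroup.closure_le]
    rintro _ ⟨R, α, x, hR, hα, rfl⟩
    have h := hom_mod_frattini hS hF htop hsc ((mem_autGroup_iff F hR).1 α.2) x
    rw [QuotientGroup.mk'_apply, QuotientGroup.mk'_apply, eq_comm, QuotientGroup.eq] at h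
    exact ⟨_, h, rfl⟩
  have hbot : (Cfsg.innerFusionSystem S).hyperfocalSubgroup p = ⊥ := by
    rw [Cfsg.FusionSystem.hyperfocalSubgroup, Subgroup.closure_eq_bot_iff]
    rintro _ ⟨R, α, x, hR, hα, rfl⟩
    have hAp : IsPGroup p ((Cfsg.innerFusionSystem S).autGroup R) := by
      refine (isPGroup_autInducedBy hS R).to_le fun a ha => ?_
      obtain ⟨-, g, hg, hx⟩ := (mem_autGroup_iff _ hR).1 ha
      exact mem_autInducedBy_iff.2 ⟨g, hg, hx⟩
    have h1 : Cfsg.pResidual p ((Cfsg.innerFusionSystem S).autGroup R) ≤ ⊥ :=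
      LocalCharP.pResidual_le fun a ha => by
        obtain ⟨k, hk⟩ := IsPGroup.iff_orderOf.1 hAp a
        rw [Subgroup.mem_bot, ← orderOf_eq_one_iff]
        exact Nat.eq_one_of_dvd_coprimes (ha.pow_right k) dvd_rfl (dvd_of_eq hk)
    rw [Subgroup.mem_bot.1 (h1 hα)]
    simp
  have hhyp : F.hyperfocalSubgroup p = ⊥ := le_bot_iff.1
    ((hyperfocal_le_of_le_frattini_sup hS hF d hIF (hle.trans le_sup_left)).trans hbot.le)
  refine FusAut.eq_inner_of_isPGroup_autGroup hS hF (fun R hR => ?_) P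
  have := finite_of_le hR
  have := finite_mulAut R
  refine FusAut.isPGroup_of_prime_order fun a q hq hqp hpow => ?_
  apply Subtype.ext
  apply MulEquiv.ext
  intro x
  apply Subtype.ext
  have hcop : (orderOf (a : MulAut R)).Coprime p :=
    FusAut.coprime_orderOf_of_primePow (n := 1) Fact.out hq hqp
      (by rw [pow_one]; exact congrArg Subtype.val hpow)
  have h := FusAut.mem_hyperfocal (p := p) F hR a.2 hcop x
  rw [hhyp, Subgroup.mem_bot] at h
  exact (inv_mul_eq_one.1 h).symm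

/-- Inner system iff inner normalizer system of `S` and strongly closed Frattini subgroup. -/
theorem inner_iff (hS : IsPGroup p S) {F : Cfsg.FusionSystem S} (hF : F.IsSaturated p)
    (d : TwistData.{v} F p) :
    (∀ P : Subgroup Ω, F.Hom P = (Cfsg.innerFusionSystem S).Hom P) ↔
      (∀ N : Cfsg.FusionSystem (normalizerIn S S), F.IsNormalizerSystem S N →
        ∀ P : Subgroup Ω, N.Hom P = (Cfsg.innerFusionSystem (normalizerIn S S)).Hom P) ∧
      F.StronglyClosed ((frattini S).map S.subtype) := by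
  have hNS : normalizerIn S S = S := le_antisymm inf_le_left fun g hg => ⟨hg, Subgroup.le_normalizer hg⟩
  constructor
  · intro h
    refine ⟨fun N hN P => ?_, Subgroup.map_subtype_le _, fun R hR φ hφ x => ?_⟩
    · ext φ
      constructor
      · intro hφ
        rw [hN P] at hφ
        obtain ⟨hφF, hP, -⟩ := hφ
        rw [h P] at hφF
        obtain ⟨-, g, hg, hx⟩ := hφF
        exact ⟨hP, g, hNS.ge hg, hx⟩
      · rintro ⟨hP, g, hg, hx⟩
        exact hom_congr N (N.conj_mem hP hg) hx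
    · rw [h R] at hφ
      obtain ⟨-, g, hg, hx⟩ := hφ
      obtain ⟨w, hw, hwx⟩ := hR x.2
      refine ⟨⟨g, hg⟩ * w * ⟨g, hg⟩⁻¹, (inferInstance : (frattini S).Normal).conj_mem w hw _, ?_⟩
      rw [hx]
      show g * (w : Ω) * g⁻¹ = _
      rw [show (w : Ω) = x from hwx]
  · rintro ⟨hN, hsc⟩ P
    refine eq_inner_of_stronglyClosed_frattini hS hF d (fun φ hφ => ?_) hsc P
    have hm : φ ∈ (normalizerSystem F S le_rfl).Hom S := by
      refine ⟨hφ, hNS.ge, fun x => hNS.ge (hom_mem F hφ x), _, restrict_mem F hφ (sup_idem S).le,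
        fun x => rfl, ?_⟩
      exact Fusion.Alperin.subgroupOf_map_eq
        (F.injective_of_mem (restrict_mem F hφ (sup_idem S).le)) le_sup_left
        fun x _ => hom_mem F hφ _
    rw [hN _ (fun _ => rfl) S] at hm
    obtain ⟨-, g, hg, hgx⟩ := hm
    exact ⟨g, hg.1, hgx⟩

end CfsgLib.FusTate
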