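import Cfsg.Agent.FusTate.Apps
import Cfsg.Agent.Fus.Biset.Transfer

/-!
The labelled set attached to a characteristic biset.
-/

set_option autoImplicit false

namespace CfsgLib.FusTate

open Cfsg Cfsg.FusionSystem CfsgLib.Fus CfsgLib.Fus.Biset MulAction

universe u

variable {Γ : Type u} [Group Γ] {B : Subgroup Γ} [Finite B] {F : Cfsg.FusionSystem B}

theorem left_smul_mul {X : Type u} [MulAction (B × B) X] (a b : B) (x : X) :
    (a, (1 : B)) • (b, (1 : B)) • x = (a * b, (1 : B)) • x := by
  rw [← mul_smul, Prod.mk_mul_mk, mul_one]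

/-- Every saturated fusion system has a left-stable labelled set. -/
theorem nonempty_twistData {p : ℕ} [Fact p.Prime] (hB : IsPGroup p B) (hF : F.IsSaturated p) :
    Nonempty (TwistData.{u} F p) := by
  classical
  obtain ⟨X, _, _, m, hX, hst, hcard, hm, -⟩ := exists_characteristic hB hF
  let I := Quotient (leftSetoid B X)
  let o : I → X := fun i => i.out
  have ho : ∀ i, Quotient.mk (leftSetoid B X) (o i) = i := Quotient.out_eq
  have hsame : ∀ (a : B) (i : I), Quotient.mk (leftSetoid B X) ((a, (1 : B)) • o i) = i := fun a i => by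
    conv_rhs => rw [← ho i]
    exact (Quotient.sound (s := leftSetoid B X) ⟨a, rfl⟩).symm
  have huniq : ∀ (a b : B) (i j : I), (a, (1 : B)) • o i = (b, (1 : B)) • o j → i = j ∧ a = b := by
    intro a b i j h
    have hij : i = j := by rw [← hsame a i, h, hsame b j]
    subst hij
    refine ⟨rfl, (inv_mul_eq_one.1 (left_free hX (x := o i) ?_)).symm⟩
    rw [← left_smul_mul, h, left_smul_mul, inv_mul_cancel]
    exact one_smul (B × B) (o i)
  let σ : B →* Equiv.Perm I :=
    { toFun := fun u => tShift (X := X) u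
      map_one' := Equiv.ext fun i => by
        induction i using Quotient.inductionOn with
        | _ x => exact congrArg _ (one_smul (B × B) x)
      map_mul' := fun u v => Equiv.ext fun i => by
        induction i using Quotient.inductionOn with
        | _ x =>
          show Quotient.mk _ (((1 : B), u * v) • x) = Quotient.mk _ (((1 : B), u) • ((1 : B), v) • x)
          rw [← mul_smul, Prod.mk_mul_mk, mul_one] }
  have hl : ∀ (u : B) (i : I), ∃ w : B, ((1 : B), u) • o i = (w⁻¹, (1 : B)) • o (σ u i) := by
    intro u i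
    have h : Quotient.mk (leftSetoid B X) (((1 : B), u) • o i) = σ u i := by
      conv_rhs => rw [← ho i]
      rfl
    obtain ⟨w, hw⟩ := Quotient.exact (h.trans (ho (σ u i)).symm)
    exact ⟨w, by rw [← hw, left_smul_mul, inv_mul_cancel]; exact (one_smul (B × B) _).symm⟩
  choose l hl using hl
  refine ⟨{ I := I, fintype := Fintype.ofFinite I, σ := σ, l := l, l_mul := ?_, not_dvd := ?_,
            twisted := ?_, stable := ?_ }⟩
  · intro u v i
    have h2 : ((1 : B), u * v) • o i = ((l u (σ v i) * l v i)⁻¹, (1 : B)) • o (σ u (σ v i)) := by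
      rw [show ((1 : B), u * v) = ((1 : B), u) * ((1 : B), v) by rw [Prod.mk_mul_mk, mul_one], mul_smul,
        hl v i, left_right_comm, hl u, left_smul_mul, mul_inv_rev]
    rw [hl (u * v) i] at h2
    exact inv_injective (huniq _ _ _ _ h2).2
  · rw [card_quotient_left hX] at hcard
    rw [Nat.eq_of_mul_eq_mul_left Nat.card_pos hcard]
    exact hm
  · intro i
    obtain ⟨P, φ, hφ, he⟩ := hX (o i)
    refine ⟨P, φ, hφ, fun u hu => ?_⟩
    have hmem : ((l u i, u) : B × B) ∈ stabilizer (B × B) (o i) := by
      rw [mem_stabilizer_iff, show ((l u i, u) : B × B) = (l u i, 1) * (1, u) by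
        rw [Prod.mk_mul_mk, mul_one, one_mul], mul_smul, hl, hu, left_smul_mul, mul_inv_cancel]
      exact one_smul (B × B) (o i)
    rw [he] at hmem
    obtain ⟨h1, h2⟩ := hmem
    exact ⟨h1, h2.symm⟩
  · intro P φ hφ
    obtain ⟨e, he1, he2⟩ := exists_equiv hX hst hφ
    let es : Equiv.Perm I := Quotient.congr e fun x y => by
      constructor
      · rintro ⟨u, rfl⟩
        exact ⟨u, (he1 u x).symm⟩
      · rintro ⟨u, hu⟩
        exact ⟨u, e.injective ((he1 u x).trans hu)⟩
    have hγ : ∀ i : I, ∃ g : B, e (o i) = (g⁻¹, (1 : B)) • o (es i) := by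
      intro i
      have h : Quotient.mk (leftSetoid B X) (e (o i)) = es i := by
        conv_rhs => rw [← ho i]
        rfl
      obtain ⟨w, hw⟩ := Quotient.exact (h.trans (ho (es i)).symm)
      exact ⟨w, by rw [← hw, left_smul_mul, inv_mul_cancel]; exact (one_smul (B × B) _).symm⟩
    choose γ hγ using hγ
    refine ⟨es, γ, fun x i => ?_⟩
    have h1 := he2 x (o i)
    rw [hl, he1, hγ (σ _ i), left_smul_mul, hγ i, left_right_comm, hl, left_smul_mul, ← mul_inv_rev,
      ← mul_inv_rev] at h1
    obtain ⟨e1, e2⟩ := huniq _ _ _ _ h1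
    exact ⟨e1.symm, (inv_injective e2).symm⟩

end CfsgLib.FusTate
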